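import Groth.Agent.LargestOpen.Basic
import Mathlib.AlgebraicGeometry.Morphisms.Smooth

universe u

open CategoryTheory CategoryTheory.Limits AlgebraicGeometry Opposite Topology

set_option backward.isDefEq.respectTransparency false

namespace Groth.Agent.LargestOpen

open _root_.AlgSp Groth.Agent.AlgSpLib

variable {S : Scheme.{u}}

lemma locP_of_openImm (R : MorphismProperty Scheme.{u}) (hR : EtST R) ⦃F G : Sp S⦄ (j : F ⟶ G) (hG : IsAlgSpace G)
    (hj : RepWith @IsOpenImmersion j) : LocP R j :=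
  (locP_iff_repWith hR hG hj.1).2 (repWith_mono (fun _ _ r hr => by
    have : IsOpenImmersion r := hr
    exact hR.of_etale r inferInstance) hj)

lemma good_fppf : Good (fun _ _ f => LocP @Flat f ∧ LocP @LocallyOfFinitePresentation f : MorphismProperty (Sp S)) where
  open_imm _ _ j _ hG hj := ⟨locP_of_openImm _ etST_flat j hG hj, locP_of_openImm _ etST_lfp j hG hj⟩
  comp _ _ _ _ _ _ hG hH hf hg := ⟨locP_comp etST_flat hG hH hf.1 hg.1, locP_comp etST_lfp hG hH hf.2 hg.2⟩
  baseChange _ _ _ _ _ _ _ _ hP hX hY hZ sq hf :=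
    ⟨locP_baseChange etST_flat hX hZ hP hY sq hf.1, locP_baseChange etST_lfp hX hZ hP hY sq hf.2⟩
  isOpenMap _ _ f hF hG hf := isOpenMap_map_of_flat_lfp hF hG f hf.1 hf.2

lemma good_smooth : Good (LocP @Smooth : MorphismProperty (Sp S)) where
  open_imm _ _ j _ hG hj := locP_of_openImm _ etST_smooth j hG hj
  comp _ _ _ _ _ _ hG hH hf hg := locP_comp etST_smooth hG hH hf hg
  baseChange _ _ _ _ _ _ _ _ hP hX hY hZ sq hf := locP_baseChange etST_smooth hX hZ hP hY sq hf
  isOpenMap _ _ f hF hG hf := by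
    refine isOpenMap_map_of_flat_lfp hF hG f (fun U V a b k ha hb comm => ?_) (fun U V a b k ha hb comm => ?_) <;>
    · have : Smooth k.left := hf a b k ha hb comm
      infer_instance

lemma good_etale : Good (IsEtaleMor : MorphismProperty (Sp S)) where
  open_imm _ _ j _ hG hj := (isEtaleMor_iff_locP hG).2 (locP_of_openImm _ etST_etale j hG hj)
  comp _ _ _ _ _ _ hG hH hf hg := (isEtaleMor_iff_locP hH).2
    (locP_comp etST_etale hG hH ((isEtaleMor_iff_locP hG).1 hf) ((isEtaleMor_iff_locP hH).1 hg))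
  baseChange _ _ _ _ _ _ _ _ hP hX hY hZ sq hf := (isEtaleMor_iff_locP hY).2
    (locP_baseChange etST_etale hX hZ hP hY sq ((isEtaleMor_iff_locP hZ).1 hf))
  isOpenMap _ _ f hF hG hf := by
    refine isOpenMap_map_of_flat_lfp hF hG f (fun U V a b k ha hb comm => ?_) (fun U V a b k ha hb comm => ?_) <;>
    · have : Etale k.left := (isEtaleMor_iff_locP hG).1 hf a b k ha hb comm
      infer_instance

end Groth.Agent.LargestOpen
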