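import Groth.Agent.AlgSpLib.Subspace
import Groth.Agent.AlgSpLib.LocPMore
import Groth.Prelude.Def_AlgSpCov

/-!
# The largest open subspace over which a morphism has a property local on the base
-/

universe u

open CategoryTheory CategoryTheory.Limits AlgebraicGeometry Opposite Topology

set_option backward.isDefEq.respectTransparency false

namespace Groth.Agent.LargestOpen

open _root_.AlgSp Groth.Agent.AlgSpLib

variable {S : Scheme.{u}}

/-- the morphisms which may be used to test a property -/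
structure Good (Q : MorphismProperty (Sp S)) : Prop where
  open_imm : ∀ ⦃F G : Sp S⦄ (j : F ⟶ G), IsAlgSpace F → IsAlgSpace G → RepWith @IsOpenImmersion j → Q j
  comp : ∀ ⦃F G H : Sp S⦄ (f : F ⟶ G) (g : G ⟶ H), IsAlgSpace F → IsAlgSpace G → IsAlgSpace H → Q f → Q g → Q (f ≫ g)
  baseChange : ∀ ⦃P X Y Z : Sp S⦄ (fst : P ⟶ X) (snd : P ⟶ Y) (f : X ⟶ Z) (g : Y ⟶ Z), IsAlgSpace P → IsAlgSpace X →
    IsAlgSpace Y → IsAlgSpace Z → IsPullback fst snd f g → Q f → Q snd
  isOpenMap : ∀ ⦃F G : Sp S⦄ (f : F ⟶ G), IsAlgSpace F → IsAlgSpace G → Q f → IsOpenMap (Points.map f)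

variable (P : MorphismProperty (Sp S))

/-- `f` has the property over the open -/
def HasP {X Y : Space S} (f : X ⟶ Y) (V : TopologicalSpace.Opens (Points Y.obj)) : Prop :=
  ∀ (W₁ X₁ : Space S) (j₁ : W₁ ⟶ Y) (j₁' : X₁ ⟶ X) (f₁ : X₁ ⟶ W₁), RepWith @IsOpenImmersion j₁.hom →
    Set.range (Points.map j₁.hom) = (V : Set (Points Y.obj)) → IsPullback j₁'.hom f₁.hom f.hom j₁.hom → P f₁.hom

variable {P} {Q : MorphismProperty (Sp S)} (hQ : Good Q) (hP : IsLocalOnBase (fun _ _ Y g => IsCover Q Y g) P)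

include hQ hP in
theorem stable_baseChange {X Y Y' X' : Sp S} (hX : IsAlgSpace X) (hY : IsAlgSpace Y) (hY' : IsAlgSpace Y')
    (hX' : IsAlgSpace X') {f : X ⟶ Y} {g : Y' ⟶ Y} {g' : X' ⟶ X} {f' : X' ⟶ Y'} (sq : IsPullback g' f' f g)
    (hg : Q g) (h : P f) : P f' := by
  let Yi : ULift.{u} Bool → Sp S := fun b => cond b.down Y' Y
  let Xi : ULift.{u} Bool → Sp S := fun b => cond b.down X' X
  let gi : ∀ b, Yi b ⟶ Y := fun b => match b with
    | ⟨true⟩ => g
    | ⟨false⟩ => 𝟙 Y
  let qi : ∀ b, Xi b ⟶ X := fun b => match b with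
    | ⟨true⟩ => g'
    | ⟨false⟩ => 𝟙 X
  let pi : ∀ b, Xi b ⟶ Yi b := fun b => match b with
    | ⟨true⟩ => f'
    | ⟨false⟩ => f
  refine (hP Yi gi hY (fun ⟨b⟩ => ?_) ⟨fun ⟨b⟩ => ?_, fun x => ⟨⟨false⟩, x, Points.map_id x⟩⟩ f hX Xi pi qi
    (fun ⟨b⟩ => ?_) (fun ⟨b⟩ => ?_)).1 h ⟨true⟩
  · cases b <;> assumption
  · cases b
    · exact hQ.open_imm _ hY hY (repWith_of_isIso (𝟙 Y))
    · exact hg
  · cases b <;> assumption
  · cases b
    · exact IsPullback.of_id_fst
    · exact sq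

include hQ hP in
theorem p_of_cover {X Y : Space S} (f : X ⟶ Y) {Y' X' : Space S} (g : Y' ⟶ Y) (g' : X' ⟶ X) (f' : X' ⟶ Y')
    (hg : Q g.hom) (sq : IsPullback g'.hom f'.hom f.hom g.hom)
    (hr : ∀ x : Points Y'.obj, ∃ V, HasP P f V ∧ Points.map g.hom x ∈ V) : P f'.hom := by
  obtain ⟨U, p, -, hps⟩ := Y'.property.atlas
  choose V hV hVmem using fun u : ↥U.left => hr (Points.ofPt p u)
  have hA : ∀ u, IsAlgSpace (subSheaf (V u : Set (Points Y.obj))) := fun u => isAlgSpace_subSheaf Y.property (V u).2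
  let Wu : ↥U.left → Sp S := fun u => pullback g.hom (subInc (V u : Set (Points Y.obj)))
  have hW : ∀ u, IsAlgSpace (Wu u) := fun u =>
    isAlgSpace_of_isPullback_space Y.property Y'.property (hA u) (IsPullback.of_hasPullback _ _)
  have hfW : ∀ u, RepWith @IsOpenImmersion (pullback.fst g.hom (subInc (V u : Set (Points Y.obj)))) := fun u =>
    repWith_baseChange (IsPullback.of_hasPullback g.hom _).flip (repWith_subInc (V u).2)
  let Xu : ↥U.left → Sp S := fun u => pullback f'.hom (pullback.fst g.hom (subInc (V u : Set (Points Y.obj))))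
  have hXu : ∀ u, IsAlgSpace (Xu u) := fun u =>
    isAlgSpace_of_isPullback_space Y'.property X'.property (hW u) (IsPullback.of_hasPullback _ _)
  refine (hP Wu (fun u => pullback.fst _ _) Y'.property hW ⟨fun u => hQ.open_imm _ (hW u) Y'.property (hfW u), fun x => ?_⟩
    f'.hom X'.property Xu (fun u => pullback.snd _ _) (fun u => pullback.fst _ _) hXu
    (fun u => IsPullback.of_hasPullback _ _)).2 fun u => ?_
  · obtain ⟨u, rfl⟩ := ofPt_surjective hps x
    obtain ⟨y, hy⟩ := map_subInc_mem' (V u) (hVmem u)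
    obtain ⟨r, hr, -⟩ := exists_point_of_isPullback (IsPullback.of_hasPullback g.hom (subInc (V u : Set (Points Y.obj))))
      (Points.ofPt p u) y hy.symm
    exact ⟨u, r, hr⟩
  · let j := subInc (V u : Set (Points Y.obj))
    have sqV := IsPullback.of_hasPullback f.hom j
    have hXV : IsAlgSpace (pullback f.hom j) :=
      isAlgSpace_of_isPullback_space Y.property X.property (hA u) sqV
    have hPV : P (pullback.snd f.hom j) :=
      hV u ⟨_, hA u⟩ ⟨_, hXV⟩ (ObjectProperty.homMk j) (ObjectProperty.homMk (pullback.fst _ _))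
        (ObjectProperty.homMk (pullback.snd _ _)) (repWith_subInc (V u).2) (range_subInc _) sqV
    have big := (IsPullback.of_hasPullback f'.hom (pullback.fst g.hom j)).paste_horiz sq
    rw [pullback.condition] at big
    refine stable_baseChange hQ hP hXV (hA u) (hW u) (hXu u)
      (g' := sqV.lift (pullback.fst f'.hom (pullback.fst g.hom j) ≫ g'.hom)
        (pullback.snd f'.hom (pullback.fst g.hom j) ≫ pullback.snd g.hom j) (by rw [big.w, Category.assoc]))
      (IsPullback.of_right ?_ (sqV.lift_snd _ _ _) sqV)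
      (hQ.baseChange _ _ g.hom j (hW u) Y'.property (hA u) Y.property (IsPullback.of_hasPullback _ _) hg) hPV
    rw [sqV.lift_fst]
    exact big
where
  map_subInc_mem' (V : TopologicalSpace.Opens (Points Y.obj)) {y : Points Y.obj} (h : y ∈ V) :
      ∃ x, Points.map (subInc (V : Set (Points Y.obj))) x = y :=
    (range_subInc (V : Set (Points Y.obj))).symm.le h

include hQ hP in
theorem hasP_range {X Y : Space S} (f : X ⟶ Y) {Y' X' : Space S} (g : Y' ⟶ Y) (g' : X' ⟶ X) (f' : X' ⟶ Y')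
    (hg : Q g.hom) (sq : IsPullback g'.hom f'.hom f.hom g.hom) (h : P f'.hom) :
    HasP P f ⟨Set.range (Points.map g.hom), (hQ.isOpenMap _ Y'.property Y.property hg).isOpen_range⟩ := by
  intro W₁ X₁ j₁ j₁' f₁ hj hr sq₁
  change Set.range (Points.map j₁.hom) = Set.range (Points.map g.hom) at hr
  have sqW := IsPullback.of_hasPullback g.hom j₁.hom
  have hW : IsAlgSpace (pullback g.hom j₁.hom) :=
    isAlgSpace_of_isPullback_space Y.property Y'.property W₁.property sqW
  have sqX := IsPullback.of_hasPullback f₁.hom (pullback.snd g.hom j₁.hom)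
  have hX : IsAlgSpace (pullback f₁.hom (pullback.snd g.hom j₁.hom)) :=
    isAlgSpace_of_isPullback_space W₁.property X₁.property hW sqX
  refine (hP (fun _ : PUnit.{u + 1} => pullback g.hom j₁.hom) (fun _ => pullback.snd _ _) W₁.property (fun _ => hW)
    ⟨fun _ => hQ.baseChange _ _ _ _ hW Y'.property W₁.property Y.property sqW hg, fun w => ?_⟩ f₁.hom X₁.property
    (fun _ => pullback f₁.hom (pullback.snd g.hom j₁.hom)) (fun _ => pullback.snd _ _) (fun _ => pullback.fst _ _)
    (fun _ => hX) (fun _ => sqX)).2 fun _ => ?_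
  · obtain ⟨y, hy⟩ := hr.le (Set.mem_range_self w)
    obtain ⟨r, -, hr'⟩ := exists_point_of_isPullback sqW y w hy
    exact ⟨PUnit.unit, r, hr'⟩
  · have big := sqX.paste_horiz sq₁
    rw [show pullback.snd g.hom j₁.hom ≫ j₁.hom = pullback.fst g.hom j₁.hom ≫ g.hom from pullback.condition.symm] at big
    refine stable_baseChange hQ hP X'.property Y'.property hW hX (g' := sq.lift _ (pullback.snd f₁.hom _ ≫ pullback.fst g.hom j₁.hom)
      (by rw [big.w, Category.assoc])) (IsPullback.of_right ?_ (sq.lift_snd _ _ _) sq)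
      (hQ.open_imm _ hW Y'.property (repWith_baseChange sqW.flip hj)) h
    rw [sq.lift_fst]
    exact big

include hQ hP in
/-- the largest open over which a morphism has a property local on the base -/
theorem exists_largest {X Y : Space S} (f : X ⟶ Y) : ∃ W : TopologicalSpace.Opens (Points Y.obj),
    HasP P f W ∧ (∀ V, HasP P f V → V ≤ W) ∧
    (∀ (Y' X' : Space S) (g : Y' ⟶ Y) (g' : X' ⟶ X) (f' : X' ⟶ Y'), Q g.hom →
      IsPullback g'.hom f'.hom f.hom g.hom → P f'.hom → Set.range (Points.map g.hom) ⊆ (W : Set (Points Y.obj))) ∧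
    ∀ (Y' X' : Space S) (g : Y' ⟶ Y) (g' : X' ⟶ X) (f' : X' ⟶ Y'), Q g.hom →
      IsPullback g'.hom f'.hom f.hom g.hom → ∀ W' : TopologicalSpace.Opens (Points Y'.obj), HasP P f' W' →
        (∀ V', HasP P f' V' → V' ≤ W') → (W' : Set (Points Y'.obj)) = Points.map g.hom ⁻¹' (W : Set (Points Y.obj)) := by
  let W : TopologicalSpace.Opens (Points Y.obj) :=
    ⟨{y | ∃ V, HasP P f V ∧ y ∈ V}, isOpen_iff_forall_mem_open.2 fun y ⟨V, hV, hy⟩ =>
      ⟨V, fun z hz => ⟨V, hV, hz⟩, V.2, hy⟩⟩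
  have hmax : ∀ V, HasP P f V → V ≤ W := fun V hV y hy => ⟨V, hV, hy⟩
  have h1 : HasP P f W := fun W₁ X₁ j₁ j₁' f₁ hj hr sq =>
    p_of_cover hQ hP f j₁ j₁' f₁ (hQ.open_imm _ W₁.property Y.property hj) sq fun x =>
      (hr.le (Set.mem_range_self x) :)
  have h3 : ∀ (Y' X' : Space S) (g : Y' ⟶ Y) (g' : X' ⟶ X) (f' : X' ⟶ Y'), Q g.hom →
      IsPullback g'.hom f'.hom f.hom g.hom → P f'.hom → Set.range (Points.map g.hom) ⊆ (W : Set (Points Y.obj)) :=
    fun Y' X' g g' f' hg sq h => hmax _ (hasP_range hQ hP f g g' f' hg sq h)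
  refine ⟨W, h1, hmax, h3, fun Y' X' g g' f' hg sq W' hW' hmax' => Set.Subset.antisymm (fun x hx => ?_) ?_⟩
  · let j := subInc (W' : Set (Points Y'.obj))
    have hA : IsAlgSpace (subSheaf (W' : Set (Points Y'.obj))) := isAlgSpace_subSheaf Y'.property W'.2
    have sqV := IsPullback.of_hasPullback f'.hom j
    have hXV : IsAlgSpace (pullback f'.hom j) := isAlgSpace_of_isPullback_space Y'.property X'.property hA sqV
    have hPV : P (pullback.snd f'.hom j) :=
      hW' ⟨_, hA⟩ ⟨_, hXV⟩ (ObjectProperty.homMk j) (ObjectProperty.homMk (pullback.fst _ _))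
        (ObjectProperty.homMk (pullback.snd _ _)) (repWith_subInc W'.2) (range_subInc _) sqV
    obtain ⟨y, rfl⟩ : x ∈ Set.range (Points.map j) := (range_subInc (W' : Set (Points Y'.obj))).symm.le hx
    refine h3 ⟨_, hA⟩ ⟨_, hXV⟩ (ObjectProperty.homMk (j ≫ g.hom)) (ObjectProperty.homMk (pullback.fst _ _ ≫ g'.hom))
      (ObjectProperty.homMk (pullback.snd f'.hom j))
      (hQ.comp _ _ hA Y'.property Y.property (hQ.open_imm _ hA Y'.property (repWith_subInc W'.2)) hg)
      (sqV.paste_horiz sq) hPV ⟨y, ?_⟩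
    exact Points.map_comp j g.hom y
  · refine (hmax' ⟨_, W.2.preimage (Points.continuous_map g.hom)⟩ fun W₁ X₁ j₁ j₁' f₁ hj hr sq₁ => ?_)
    refine p_of_cover hQ hP f (j₁ ≫ g) (j₁' ≫ g') f₁
      (hQ.comp _ _ W₁.property Y'.property Y.property (hQ.open_imm _ W₁.property Y'.property hj) hg)
      (sq₁.paste_horiz sq) fun x => ?_
    have := hr.le (Set.mem_range_self x)
    rw [show (j₁ ≫ g).hom = j₁.hom ≫ g.hom from rfl, Points.map_comp]
    exact this

end Groth.Agent.LargestOpen
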